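import Groth.Agent.Lib.Hens.AtPrime
import Groth.Agent.Lib.Hens.Noetherian
import Groth.Agent.Lib.Hens.Local
import Mathlib.RingTheory.Adjoin.FG

/-!
# Transfer of "henselization of an algebra essentially of finite type" along finite local maps
-/

set_option autoImplicit false
set_option linter.style.haveILetI false
universe u

open IsLocalRing

namespace Groth.Agent.HensTransfer7

/-- `T` is the henselization of an `A`-algebra essentially of finite type. -/
def IsHEFT (A T : Type u) [CommRing A] [CommRing T] [IsLocalRing T] [Algebra A T] : Prop :=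
  ∃ (B : Type u) (_ : CommRing B) (_ : Algebra A B) (_ : Algebra.FiniteType A B) (p : Ideal B) (_ : p.IsPrime)
    (_ : Algebra (Localization.AtPrime p) T) (_ : IsScalarTower A (Localization.AtPrime p) T)
    (_ : IsLocalHom (algebraMap (Localization.AtPrime p) T)), Hensel.IsHenselization (Localization.AtPrime p) T

variable {B T : Type u} [CommRing B] [CommRing T] [IsLocalRing T]

/-- The map from the localization at the contraction of the maximal ideal. -/
noncomputable def locMap {S : Type u} [CommRing S] (f : S →+* T) (q : Ideal S) [q.IsPrime]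
    (hq : (maximalIdeal T).comap f = q) : Localization.AtPrime q →+* T :=
  IsLocalization.lift (M := q.primeCompl) (g := f) fun s => by
    by_contra h
    exact s.2 (hq.le h)

theorem locMap_apply {S : Type u} [CommRing S] (f : S →+* T) (q : Ideal S) [q.IsPrime]
    (hq : (maximalIdeal T).comap f = q) (s : S) : locMap f q hq (algebraMap S _ s) = f s :=
  IsLocalization.lift_eq _ s

theorem isLocalHom_locMap {S : Type u} [CommRing S] (f : S →+* T) (q : Ideal S) [q.IsPrime]
    (hq : (maximalIdeal T).comap f = q) : IsLocalHom (locMap f q hq) where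
  map_nonunit a ha := by
    obtain ⟨x, s, rfl⟩ := IsLocalization.exists_mk'_eq q.primeCompl a
    rw [IsLocalization.AtPrime.isUnit_mk'_iff (Localization.AtPrime q) q]
    have hu : IsUnit (f x) := by
      have h1 : locMap f q hq (IsLocalization.mk' _ x s) * f s = f x := by
        rw [← locMap_apply f q hq s, ← map_mul, IsLocalization.mk'_spec, locMap_apply]
      rw [← h1]
      refine ha.mul ?_
      by_contra h
      exact s.2 (hq.le h)
    exact fun h => (mem_maximalIdeal _).1 (hq.ge h) hu

theorem comap_eq_of_local {R : Type u} [CommRing R] [IsLocalRing R] {S : Type u} [CommRing S] [Algebra S R]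
    (q : Ideal S) [q.IsPrime] [IsLocalization.AtPrime R q] (f : R →+* T) [IsLocalHom f] :
    (maximalIdeal T).comap (f.comp (algebraMap S R)) = q := by
  rw [← Ideal.comap_comap, maximalIdeal_comap f]
  exact IsLocalization.AtPrime.comap_maximalIdeal R q

section nbhd

variable (p : Ideal B) [p.IsPrime] [Algebra (Localization.AtPrime p) T]
  [IsLocalHom (algebraMap (Localization.AtPrime p) T)] [Hensel.IsHenselization (Localization.AtPrime p) T]
  [Algebra B T] [IsScalarTower B (Localization.AtPrime p) T]

/-- A henselization is the henselization at each residually trivial étale neighbourhood. -/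
theorem isHenselization_nbhd {S : Type u} [CommRing S] [Algebra B S] [Algebra.Etale B S]
    (q : Ideal S) [q.IsPrime] (hq : p = q.comap (algebraMap B S))
    (hb : Function.Bijective (Ideal.ResidueField.map p q (algebraMap B S) hq))
    (f : S →ₐ[B] T) (hf : (maximalIdeal T).comap f.toRingHom = q) :
    letI := (locMap f.toRingHom q hf).toAlgebra
    ∃ _ : IsLocalHom (algebraMap (Localization.AtPrime q) T), Hensel.IsHenselization (Localization.AtPrime q) T := by
  letI := (locMap f.toRingHom q hf).toAlgebra
  haveI hloc : IsLocalHom (algebraMap (Localization.AtPrime q) T) := isLocalHom_locMap f.toRingHom q hf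
  refine ⟨hloc,
    { henselian := Hensel.IsHenselization.henselian (R := Localization.AtPrime p)
      universal := fun U _ _ h hh => ?_ }⟩
  let h₀ : S →+* U := h.comp (algebraMap S (Localization.AtPrime q))
  have hh₀ : (maximalIdeal U).comap h₀ = q := comap_eq_of_local q h
  have hcp : (maximalIdeal U).comap (h₀.comp (algebraMap B S)) = p := by rw [← Ideal.comap_comap, hh₀, ← hq]
  obtain ⟨g, hg, hu⟩ := Hensel.IsHenselization.universal (R := Localization.AtPrime p) (S := T) U
    (locMap _ p hcp) (isLocalHom_locMap _ p hcp)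
  have hgB : ∀ b, g (algebraMap B T b) = h₀ (algebraMap B S b) := fun b => by
    rw [IsScalarTower.algebraMap_apply B (Localization.AtPrime p) T,
      ← RingHom.comp_apply g, hg, locMap_apply]
    rfl
  have hgloc : (maximalIdeal U).comap (g.comp f.toRingHom) = q := by
    have : (maximalIdeal U).comap g = maximalIdeal T := by
      refine le_antisymm (le_maximalIdeal (Ideal.IsPrime.ne_top inferInstance)) ?_
      rw [← Hens.henselization_map_maximalIdeal (Localization.AtPrime p) T, Ideal.map_le_iff_le_comap,
        Ideal.comap_comap, hg]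
      haveI := isLocalHom_locMap _ p hcp
      exact (maximalIdeal_comap _).ge
    rw [← Ideal.comap_comap, this]
    exact hf
  letI : Algebra B U := (h₀.comp (algebraMap B S)).toAlgebra
  let a : S →ₐ[B] U := { g.comp f.toRingHom with
    commutes' := fun b => (congrArg g (f.commutes b)).trans (hgB b) }
  let c : S →ₐ[B] U := { h₀ with commutes' := fun b => rfl }
  have hres := Hens.algHom_eq_of_ker p q hq hb ((IsScalarTower.toAlgHom B U (ResidueField U)).comp a)
    ((IsScalarTower.toAlgHom B U (ResidueField U)).comp c)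
    (by rw [← hgloc]; ext x; exact residue_eq_zero_iff (a x))
    (by rw [← hh₀]; ext x; exact residue_eq_zero_iff (c x))
  have hac : a = c := Hens.algHom_ext_of_le_jacobson (A := B) (E := S)
    (maximalIdeal_le_jacobson (⊥ : Ideal U)) fun x => by
      rw [← residue_eq_zero_iff, map_sub, sub_eq_zero]
      exact congr($hres x)
  refine ⟨g, IsLocalization.ringHom_ext q.primeCompl (RingHom.ext fun s => ?_), fun g' hg' => hu g' ?_⟩
  · show g (locMap f.toRingHom q hf (algebraMap S _ s)) = _
    rw [locMap_apply]
    exact congr($hac s)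
  · refine IsLocalization.ringHom_ext p.primeCompl (RingHom.ext fun b => ?_)
    show g' (algebraMap (Localization.AtPrime p) T (algebraMap B _ b)) = locMap _ p hcp (algebraMap B _ b)
    rw [← IsScalarTower.algebraMap_apply, locMap_apply, ← f.commutes]
    have := congr($hg' (algebraMap S (Localization.AtPrime q) (algebraMap B S b)))
    rw [RingHom.comp_apply, RingHom.algebraMap_toAlgebra, locMap_apply] at this
    exact this

/-- Finitely many elements of a henselization come from one étale neighbourhood. -/
theorem exists_nbhd (s : Finset T) :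
    ∃ (S : Type u) (_ : CommRing S) (_ : Algebra B S) (_ : Algebra.Etale B S) (q : Ideal S) (_ : q.IsPrime)
      (hq : p = q.comap (algebraMap B S)),
      Function.Bijective (Ideal.ResidueField.map p q (algebraMap B S) hq) ∧
        ∃ f : S →ₐ[B] T, (maximalIdeal T).comap f.toRingHom = q ∧ (s : Set T) ⊆ Set.range f := by
  classical
  obtain ⟨huni, hex, -⟩ := Hens.henselization_atPrime_colimit p T
  induction s using Finset.induction_on with
  | empty =>
    obtain ⟨S, i1, i2, i3, q, i4, hq, hb, f, x, hf, -⟩ := hex 0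
    exact ⟨S, i1, i2, i3, q, i4, hq, hb, f, hf, by simp⟩
  | @insert a s _ ih =>
    obtain ⟨S₁, _, _, _, q₁, _, hq₁, hb₁, f₁, hf₁, hs⟩ := ih
    obtain ⟨S₂, _, _, _, q₂, _, hq₂, hb₂, f₂, x, hf₂, hx⟩ := hex a
    obtain ⟨S, i1, i2, i3, q, i4, hq, hb, φ₁, φ₂, h₁, h₂⟩ :=
      Hens.exists_trivial_dominating p S₁ q₁ hq₁ hb₁ S₂ q₂ hq₂ hb₂
    obtain ⟨f, hf, -⟩ := huni S q hq hb
    have e₁ : f.comp φ₁ = f₁ := (huni S₁ q₁ hq₁ hb₁).unique (by
      show (maximalIdeal T).comap (f.toRingHom.comp φ₁.toRingHom) = q₁
      rw [← Ideal.comap_comap, hf, h₁]) hf₁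
    have e₂ : f.comp φ₂ = f₂ := (huni S₂ q₂ hq₂ hb₂).unique (by
      show (maximalIdeal T).comap (f.toRingHom.comp φ₂.toRingHom) = q₂
      rw [← Ideal.comap_comap, hf, h₂]) hf₂
    refine ⟨S, i1, i2, i3, q, i4, hq, hb, f, hf, ?_⟩
    intro y hy
    rcases Finset.mem_insert.1 (Finset.mem_coe.1 hy) with rfl | hy
    · exact ⟨φ₂ x, by rw [← hx, ← e₂]; rfl⟩
    · obtain ⟨z, hz⟩ := hs (Finset.mem_coe.2 hy)
      exact ⟨φ₁ z, by rw [← hz, ← e₁]; rfl⟩

end nbhd

theorem isNoetherianRing_of_isHEFT (A T : Type u) [CommRing A] [IsNoetherianRing A] [CommRing T] [IsLocalRing T]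
    [Algebra A T] (h : IsHEFT A T) : IsNoetherianRing T := by
  obtain ⟨B, _, _, _, p, _, _, _, _, _⟩ := h
  haveI := Algebra.FiniteType.isNoetherianRing A B
  haveI : IsNoetherianRing (Localization.AtPrime p) := IsLocalization.isNoetherianRing p.primeCompl _ inferInstance
  exact Hens.henselization_isNoetherianRing (Localization.AtPrime p) T

/-- The property passes to finite local algebras. -/
theorem isHEFT_of_finite (A T T₁ : Type u) [CommRing A] [IsNoetherianRing A] [CommRing T] [IsLocalRing T]
    [CommRing T₁] [IsLocalRing T₁] [Algebra A T] [Algebra A T₁] [Algebra T T₁] [IsScalarTower A T T₁]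
    [Module.Finite T T₁] [IsLocalHom (algebraMap T T₁)] (h : IsHEFT A T) : IsHEFT A T₁ := by
  classical
  haveI := isNoetherianRing_of_isHEFT A T h
  obtain ⟨B, _, _, _, p, _, _, _, _, hH⟩ := h
  haveI := hH
  haveI hhens : HenselianLocalRing T := Hensel.IsHenselization.henselian (R := Localization.AtPrime p)
  letI : Algebra B T := ((algebraMap (Localization.AtPrime p) T).comp (algebraMap B _)).toAlgebra
  haveI : IsScalarTower B (Localization.AtPrime p) T := IsScalarTower.of_algebraMap_eq fun _ => rfl
  obtain ⟨n, π, hπ⟩ := Algebra.FiniteType.iff_quotient_mvPolynomial''.1 (inferInstance : Algebra.FiniteType T T₁)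
  obtain ⟨F, hF⟩ := IsNoetherian.noetherian (RingHom.ker π)
  let s : Finset T := F.biUnion fun P => P.support.image fun m => P.coeff m
  obtain ⟨S, _, _, _, q, _, hq, hb, f, hf, hs⟩ := exists_nbhd (T := T) p s
  letI : Algebra (Localization.AtPrime q) T := (locMap f.toRingHom q hf).toAlgebra
  obtain ⟨_, hTq⟩ := isHenselization_nbhd p q hq hb f hf
  haveI := hTq
  have hlift : ∀ P : {P // P ∈ F}, ∃ P' : MvPolynomial (Fin n) S, MvPolynomial.map f.toRingHom P' = P.1 := by
    intro P
    refine MvPolynomial.mem_range_map_iff_coeffs_subset.2 fun c hc => hs ?_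
    obtain ⟨m, hm, rfl⟩ := MvPolynomial.mem_coeffs_iff.1 hc
    exact Finset.mem_coe.2 (Finset.mem_biUnion.2 ⟨P.1, P.2, Finset.mem_image.2 ⟨m, hm, rfl⟩⟩)
  choose F' hF' using hlift
  letI : Algebra A S := ((algebraMap B S).comp (algebraMap A B)).toAlgebra
  haveI : IsScalarTower A B S := IsScalarTower.of_algebraMap_eq fun _ => rfl
  haveI : Algebra.FiniteType A S := Algebra.FiniteType.trans (S := B) ‹_› inferInstance
  let J : Ideal (MvPolynomial (Fin n) S) := Ideal.span (Set.range F')
  haveI : Algebra.FiniteType A (MvPolynomial (Fin n) S) :=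
    Algebra.FiniteType.trans (R := A) (S := S) (A := MvPolynomial (Fin n) S) ‹_› inferInstance
  haveI : Algebra.FiniteType A (MvPolynomial (Fin n) S ⧸ J) :=
    Algebra.FiniteType.of_surjective (Ideal.Quotient.mkₐ A J) Ideal.Quotient.mk_surjective
  let ψ₀ : MvPolynomial (Fin n) S →+* T₁ := π.toRingHom.comp (MvPolynomial.map f.toRingHom)
  have hψ₀ : ∀ x ∈ J, ψ₀ x = 0 := fun x hx => by
    have : J ≤ RingHom.ker ψ₀ := Ideal.span_le.2 fun y hy => by
      obtain ⟨P, rfl⟩ := hy
      show π (MvPolynomial.map f.toRingHom (F' P)) = 0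
      rw [hF']
      exact RingHom.mem_ker.1 (hF.le (Ideal.subset_span P.2))
    exact this hx
  let ψ : MvPolynomial (Fin n) S ⧸ J →+* T₁ := Ideal.Quotient.lift J ψ₀ hψ₀
  let 𝔭 : Ideal (MvPolynomial (Fin n) S ⧸ J) := (maximalIdeal T₁).comap ψ
  haveI : 𝔭.IsPrime := Ideal.comap_isPrime ψ _
  letI : Algebra (Localization.AtPrime 𝔭) T₁ := (locMap ψ 𝔭 rfl).toAlgebra
  haveI : IsLocalHom (algebraMap (Localization.AtPrime 𝔭) T₁) := isLocalHom_locMap ψ 𝔭 rfl
  haveI : IsScalarTower A (Localization.AtPrime 𝔭) T₁ := IsScalarTower.of_algebraMap_eq fun a => by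
    rw [IsScalarTower.algebraMap_apply A (MvPolynomial (Fin n) S ⧸ J) (Localization.AtPrime 𝔭),
      RingHom.algebraMap_toAlgebra, locMap_apply]
    show algebraMap A T₁ a = π (MvPolynomial.map f.toRingHom (MvPolynomial.C (algebraMap B S (algebraMap A B a))))
    rw [MvPolynomial.map_C, ← MvPolynomial.algebraMap_eq, AlgHom.commutes]
    show algebraMap A T₁ a = algebraMap T T₁ (f (algebraMap B S (algebraMap A B a)))
    rw [f.commutes, IsScalarTower.algebraMap_apply A T T₁]
    congr 1
    rw [IsScalarTower.algebraMap_apply A (Localization.AtPrime p) T, IsScalarTower.algebraMap_apply A B]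
    rfl
  refine ⟨_, inferInstance, inferInstance, inferInstance, 𝔭, inferInstance, inferInstance, inferInstance,
    isLocalHom_locMap ψ 𝔭 rfl, ⟨?_, fun U _ _ h hh => ?_⟩⟩
  · haveI : Algebra.IsIntegral T T₁ := Algebra.IsIntegral.of_finite T T₁
    exact Hens.henselianLocalRing_of_isIntegral T T₁
  · let h₁ : MvPolynomial (Fin n) S →+* U :=
      (h.comp (algebraMap _ (Localization.AtPrime 𝔭))).comp (Ideal.Quotient.mk J)
    have hS : (maximalIdeal U).comap (h₁.comp MvPolynomial.C) = q := by
      rw [← Ideal.comap_comap, show (maximalIdeal U).comap h₁ = 𝔭.comap (Ideal.Quotient.mk J) by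
        rw [← comap_eq_of_local (T := U) 𝔭 h, Ideal.comap_comap], ← hf]
      ext x
      show ψ₀ (MvPolynomial.C x) ∈ maximalIdeal T₁ ↔ f x ∈ maximalIdeal T
      rw [show ψ₀ (MvPolynomial.C x) = algebraMap T T₁ (f x) by
        show π (MvPolynomial.map f.toRingHom (MvPolynomial.C x)) = _
        rw [MvPolynomial.map_C, ← MvPolynomial.algebraMap_eq, AlgHom.commutes]
        rfl]
      simp only [mem_maximalIdeal, mem_nonunits_iff, isUnit_map_iff]
    obtain ⟨g, hg, hu⟩ := Hensel.IsHenselization.universal (R := Localization.AtPrime q) (S := T) U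
      (locMap _ q hS) (isLocalHom_locMap _ q hS)
    have hgS : ∀ x, g (f x) = h₁ (MvPolynomial.C x) := fun x => by
      have := congr($hg (algebraMap S (Localization.AtPrime q) x))
      rw [RingHom.comp_apply, RingHom.algebraMap_toAlgebra, locMap_apply, locMap_apply] at this
      exact this
    let G₀ : MvPolynomial (Fin n) T →+* U := MvPolynomial.eval₂Hom g fun i => h₁ (MvPolynomial.X i)
    have hG₀ : G₀.comp (MvPolynomial.map f.toRingHom) = h₁ :=
      MvPolynomial.ringHom_ext (fun x => by simpa [G₀] using hgS x) (fun i => by simp [G₀])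
    have hker : ∀ x, π x = 0 → G₀ x = 0 := fun x hx => by
      have : RingHom.ker π ≤ RingHom.ker G₀ := by
        rw [← hF, Submodule.span_le]
        intro P hP
        show G₀ P = 0
        rw [show P = MvPolynomial.map f.toRingHom (F' ⟨P, hP⟩) from (hF' ⟨P, hP⟩).symm, ← RingHom.comp_apply, hG₀]
        show h (algebraMap _ _ (Ideal.Quotient.mk J (F' ⟨P, hP⟩))) = 0
        rw [(Ideal.Quotient.eq_zero_iff_mem (I := J)).2 (Ideal.subset_span (Set.mem_range_self (⟨P, hP⟩ : {P // P ∈ F}))), map_zero, map_zero]
      exact this hx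
    let G : T₁ →+* U := RingHom.liftOfSurjective π.toRingHom hπ ⟨G₀, fun x hx => hker x hx⟩
    have hG : ∀ x, G (π x) = G₀ x := fun x =>
      RingHom.liftOfRightInverse_comp_apply π.toRingHom _ _ ⟨G₀, fun x hx => hker x hx⟩ x
    refine ⟨G, IsLocalization.ringHom_ext 𝔭.primeCompl (Ideal.Quotient.ringHom_ext (RingHom.ext fun x => ?_)),
      fun G' hG' => ?_⟩
    · show G (locMap ψ 𝔭 rfl (algebraMap _ _ (Ideal.Quotient.mk J x))) = h₁ x
      rw [locMap_apply]
      show G (π (MvPolynomial.map f.toRingHom x)) = _
      rw [hG, ← RingHom.comp_apply, hG₀]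
    · have hG'' : ∀ x, G' (π (MvPolynomial.map f.toRingHom x)) = h₁ x := fun x => by
        have := congr($hG' (algebraMap _ (Localization.AtPrime 𝔭) (Ideal.Quotient.mk J x)))
        rw [RingHom.comp_apply, RingHom.algebraMap_toAlgebra, locMap_apply] at this
        exact this
      have hg' : G'.comp (algebraMap T T₁) = g := hu _ (IsLocalization.ringHom_ext q.primeCompl (RingHom.ext fun x => by
        show G' (algebraMap T T₁ (locMap f.toRingHom q hf (algebraMap S _ x))) = locMap _ q hS (algebraMap S _ x)
        rw [locMap_apply, locMap_apply, RingHom.comp_apply, ← hG'' (MvPolynomial.C x), MvPolynomial.map_C,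
          ← MvPolynomial.algebraMap_eq, AlgHom.commutes]))
      refine (RingHom.cancel_right (f := π.toRingHom) hπ).1 ?_
      refine MvPolynomial.ringHom_ext (fun x => ?_) (fun i => ?_)
      · show G' (π (MvPolynomial.C x)) = G (π (MvPolynomial.C x))
        rw [hG, ← MvPolynomial.algebraMap_eq, AlgHom.commutes, ← RingHom.comp_apply, hg', MvPolynomial.algebraMap_eq]
        simp [G₀]
      · show G' (π (MvPolynomial.X i)) = G (π (MvPolynomial.X i))
        rw [hG]
        have := hG'' (MvPolynomial.X i)
        rw [MvPolynomial.map_X] at this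
        simpa [G₀] using this

/-- The property descends along finite injective local maps. -/
theorem isHEFT_of_finite_injective (A T T₁ : Type u) [CommRing A] [IsNoetherianRing A] [CommRing T]
    [HenselianLocalRing T] [CommRing T₁] [HenselianLocalRing T₁] [Algebra A T] [Algebra A T₁] [Algebra T T₁]
    [IsScalarTower A T T₁] [Module.Finite T T₁] [IsLocalHom (algebraMap T T₁)]
    (hinj : Function.Injective (algebraMap T T₁)) (h : IsHEFT A T₁) : IsHEFT A T := by
  classical
  obtain ⟨C, _, _, hC, P, _, _, _, _, hH⟩ := h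
  haveI := hH
  obtain ⟨gs, hgs⟩ := hC.out
  let ρ₁ : C →ₐ[A] T₁ :=
    (IsScalarTower.toAlgHom A (Localization.AtPrime P) T₁).comp (IsScalarTower.toAlgHom A C _)
  haveI : Algebra.IsIntegral T T₁ := Algebra.IsIntegral.of_finite T T₁
  choose Q hQm hQ using fun c : C => Algebra.IsIntegral.isIntegral (R := T) (ρ₁ c)
  let s : Finset T := gs.biUnion fun c => (Q c).support.image (Q c).coeff
  let D : Subalgebra A T := Algebra.adjoin A (s : Set T)
  haveI : Algebra.FiniteType A D := (Subalgebra.fg_iff_finiteType D).1 ⟨s, rfl⟩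
  let d : Ideal D := (maximalIdeal T).comap D.val.toRingHom
  haveI : d.IsPrime := Ideal.comap_isPrime _ _
  let H := Hens.Hs D d.ResidueField
  letI : Algebra A H := ((algebraMap D H).comp (algebraMap A D)).toAlgebra
  haveI : IsScalarTower A D H := IsScalarTower.of_algebraMap_eq fun _ => rfl
  have hHeft : IsHEFT A H :=
    ⟨D, inferInstance, inferInstance, inferInstance, d, inferInstance, inferInstance,
      IsScalarTower.of_algebraMap_eq fun a => by
        rw [IsScalarTower.algebraMap_apply A D (Localization.AtPrime d),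
          ← IsScalarTower.algebraMap_apply D (Localization.AtPrime d), IsScalarTower.algebraMap_apply A D H],
      inferInstance, inferInstance⟩
  haveI := isNoetherianRing_of_isHEFT A H hHeft
  haveI : HenselianLocalRing H := Hensel.IsHenselization.henselian (R := Localization.AtPrime d)
  obtain ⟨u, hu, -⟩ := Hensel.IsHenselization.universal (R := Localization.AtPrime d) (S := H) T
    (locMap D.val.toRingHom d rfl) (isLocalHom_locMap D.val.toRingHom d rfl)
  have huD : ∀ x : D, u (algebraMap D H x) = x := fun x => by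
    rw [IsScalarTower.algebraMap_apply D (Localization.AtPrime d) H, ← RingHom.comp_apply u, hu, locMap_apply]
    rfl
  letI : Algebra H T := u.toAlgebra
  letI : Algebra H T₁ := ((algebraMap T T₁).comp u).toAlgebra
  haveI : IsScalarTower H T T₁ := IsScalarTower.of_algebraMap_eq fun _ => rfl
  haveI : IsScalarTower A H T := IsScalarTower.of_algebraMap_eq fun a => by
    rw [IsScalarTower.algebraMap_apply A D H]
    exact (huD (algebraMap A D a)).symm
  have huloc : IsLocalHom (algebraMap H T) := by
    refine ((local_hom_TFAE u).out 0 2 rfl rfl).2 ?_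
    rw [← Hens.henselization_map_maximalIdeal (Localization.AtPrime d) H, Ideal.map_map, hu]
    exact ((local_hom_TFAE _).out 0 2 rfl rfl).1 (isLocalHom_locMap D.val.toRingHom d rfl)
  haveI := huloc
  have hmax : ∀ a ∈ maximalIdeal H, algebraMap H T₁ a ∈ maximalIdeal T₁ := fun a ha hu' => by
    have h1 : IsUnit (algebraMap H T a) := isUnit_of_map_unit (algebraMap T T₁) _ hu'
    exact ha (isUnit_of_map_unit (algebraMap H T) _ h1)
  let M : Subalgebra H T₁ := Algebra.adjoin H (ρ₁ '' (gs : Set C))
  haveI : Module.Finite H M := by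
    refine (Module.Finite.iff_fg (N := Subalgebra.toSubmodule M)).2 ?_
    refine fg_adjoin_of_finite (gs.finite_toSet.image _) ?_
    rintro _ ⟨c, hc, rfl⟩
    have hcoef : ∀ m, (Q c).coeff m ∈ Set.range (algebraMap H T) := fun m => by
      by_cases hm : m ∈ (Q c).support
      · exact ⟨algebraMap D H ⟨_, Algebra.subset_adjoin (Finset.mem_coe.2
          (Finset.mem_biUnion.2 ⟨c, hc, Finset.mem_image.2 ⟨m, hm, rfl⟩⟩))⟩, huD _⟩
      · exact ⟨0, by rw [map_zero, Polynomial.notMem_support_iff.1 hm]⟩
    obtain ⟨Q', hQ'⟩ := (Polynomial.lifts_and_degree_eq_and_monic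
      ((Polynomial.lifts_iff_coeff_lifts _).2 hcoef) (hQm c))
    refine ⟨Q', hQ'.2.2, ?_⟩
    rw [IsScalarTower.algebraMap_eq H T T₁, ← Polynomial.eval₂_map, hQ'.1]
    exact hQ c
  haveI : Algebra.IsIntegral H M := Algebra.IsIntegral.of_finite H M
  haveI : IsLocalRing M := by
    obtain ⟨ι, _, R, _, hR, ⟨e⟩⟩ := Hens.exists_ringEquiv_pi_of_surjOn (A := H) (B := M)
      Hens.surjOn_idempotents_of_henselian
    haveI := hR
    haveI : Nonempty ι := by
      by_contra h
      haveI := not_nonempty_iff.1 h
      exact zero_ne_one (α := M) (e.injective (Subsingleton.elim _ _))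
    haveI : Subsingleton ι := ⟨fun i j => by
      by_contra hij
      have hid : IsIdempotentElem ((e.symm (Pi.single i 1) : M) : T₁) := by
        show _ * _ = _
        rw [← MulMemClass.coe_mul, ← map_mul, ← Pi.single_mul, one_mul]
      have h01 : ((e.symm (Pi.single i 1) : M) : T₁) = 0 ∨ ((e.symm (Pi.single i 1) : M) : T₁) = 1 := by
        have hid' : ((e.symm (Pi.single i 1) : M) : T₁) * ((e.symm (Pi.single i 1) : M) : T₁) = _ := hid
        rcases IsLocalRing.isUnit_or_isUnit_one_sub_self ((e.symm (Pi.single i 1) : M) : T₁) with h | h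
        · exact Or.inr (h.mul_left_cancel (hid'.trans (mul_one _).symm))
        · exact Or.inl (h.mul_right_eq_zero.1 (by rw [sub_mul, one_mul, hid', sub_self]))
      rcases h01 with h0 | h1
      · have h0' : e.symm (Pi.single i 1) = 0 := Subtype.ext h0
        rw [EmbeddingLike.map_eq_zero_iff] at h0'
        simpa using congrFun h0' i
      · have h1' : e.symm (Pi.single i 1) = 1 := Subtype.ext h1
        rw [EmbeddingLike.map_eq_one_iff] at h1'
        simpa [Pi.single_eq_of_ne (Ne.symm hij)] using congrFun h1' j⟩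
    let i := Classical.arbitrary ι
    haveI : Unique ι := uniqueOfSubsingleton i
    exact (e.trans (RingEquiv.piUnique R)).symm.isLocalRing
  haveI : HenselianLocalRing M := Hens.henselianLocalRing_of_isIntegral H M
  have hMu : ∀ x : M, IsUnit (x : T₁) → IsUnit x := fun x hx => by
    by_contra hxu
    let J : Ideal M := (maximalIdeal T₁).comap M.val.toRingHom
    haveI : J.IsPrime := Ideal.comap_isPrime _ _
    have hJ : maximalIdeal H ≤ J.comap (algebraMap H M) := fun a ha => hmax a ha
    haveI : J.IsMaximal := Ideal.isMaximal_of_isIntegral_of_isMaximal_comap (R := H) J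
      ((maximalIdeal.isMaximal H).eq_of_le (Ideal.comap_ne_top _ (Ideal.IsPrime.ne_top inferInstance)) hJ ▸
        inferInstance)
    have : x ∈ J := eq_maximalIdeal (I := J) inferInstance ▸ (mem_maximalIdeal x).2 hxu
    exact this hx
  have hρ : ∀ c, ρ₁ c ∈ M := fun c => by
    have : c ∈ Algebra.adjoin A (gs : Set C) := by rw [hgs]; trivial
    induction this using Algebra.adjoin_induction with
    | mem x hx => exact Algebra.subset_adjoin ⟨x, hx, rfl⟩
    | algebraMap a =>
      rw [AlgHom.commutes, IsScalarTower.algebraMap_apply A T T₁, IsScalarTower.algebraMap_apply A H T]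
      exact M.algebraMap_mem (algebraMap A H a)
    | add x y _ _ hx hy => rw [map_add]; exact add_mem hx hy
    | mul x y _ _ hx hy => rw [map_mul]; exact mul_mem hx hy
  let ρM : C →+* M := ρ₁.toRingHom.codRestrict M hρ
  have hρM : (maximalIdeal M).comap ρM = P := by
    rw [← comap_eq_of_local (T := T₁) P (algebraMap (Localization.AtPrime P) T₁)]
    ext c
    simp only [Ideal.mem_comap, mem_maximalIdeal, mem_nonunits_iff]
    exact ⟨fun h1 h2 => h1 (hMu _ h2), fun h1 h2 => h1 (h2.map M.val)⟩
  obtain ⟨ψ, hψ, -⟩ := Hensel.IsHenselization.universal (R := Localization.AtPrime P) (S := T₁) M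
    (locMap ρM P hρM) (isLocalHom_locMap ρM P hρM)
  obtain ⟨w, -, hw⟩ := Hensel.IsHenselization.universal (R := Localization.AtPrime P) (S := T₁) T₁
    (algebraMap _ _) inferInstance
  have hid : M.val.toRingHom.comp ψ = RingHom.id T₁ := by
    refine (hw _ ?_).trans (hw _ (RingHom.id_comp _)).symm
    show (M.val.toRingHom.comp ψ).comp _ = _
    rw [RingHom.comp_assoc, hψ]
    refine IsLocalization.ringHom_ext P.primeCompl (RingHom.ext fun c => ?_)
    show ((locMap ρM P hρM (algebraMap C _ c) : M) : T₁) = _
    rw [locMap_apply]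
    rfl
  haveI : Module.Finite H T₁ := Module.Finite.of_surjective M.val.toLinearMap fun x => ⟨ψ x, congr($hid x)⟩
  haveI : Module.Finite H T := Module.Finite.of_injective (IsScalarTower.toAlgHom H T T₁).toLinearMap hinj
  exact isHEFT_of_finite A H T hHeft

end Groth.Agent.HensTransfer7
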